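import Cfsg.Agent.H16.D.LMc.D

/-! Generated by tools/h16 (computation kit). -/

set_option maxRecDepth 100000
set_option maxHeartbeats 0

namespace H16.LMc

open H26 (jn)
open DC
theorem rtc : dt.run q (fun c => allZ (c.ruleEnt Ds) 0 c.R.length) = true := by decide +kernel
theorem v6c : dt.run q (fun c => Nat.add (c.chkL P6 (nat_lit 0)) (Nat.xor ((nat_lit 0) + List.length P6) (nat_lit 6))) = 0 := by decide +kernel
theorem v8c : dt.run q (fun c => Nat.add (c.chkL P8 (nat_lit 6)) (Nat.xor ((nat_lit 6) + List.length P8) (nat_lit 8))) = 0 := by decide +kernel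
theorem v17c : dt.run q (fun c => Nat.add (c.chkL P17 (nat_lit 8)) (Nat.xor ((nat_lit 8) + List.length P17) (nat_lit 17))) = 0 := by decide +kernel
theorem v29c : dt.run q (fun c => Nat.add (c.chkL P29 (nat_lit 17)) (Nat.xor ((nat_lit 17) + List.length P29) (nat_lit 29))) = 0 := by decide +kernel
theorem v40c : dt.run q (fun c => Nat.add (c.chkL P40 (nat_lit 29)) (Nat.xor ((nat_lit 29) + List.length P40) (nat_lit 40))) = 0 := by decide +kernel
theorem v52c : dt.run q (fun c => Nat.add (c.chkL P52 (nat_lit 40)) (Nat.xor ((nat_lit 40) + List.length P52) (nat_lit 52))) = 0 := by decide +kernel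
theorem v64c : dt.run q (fun c => Nat.add (c.chkL P64 (nat_lit 52)) (Nat.xor ((nat_lit 52) + List.length P64) (nat_lit 64))) = 0 := by decide +kernel
theorem v72c : dt.run q (fun c => Nat.add (c.chkL P72 (nat_lit 64)) (Nat.xor ((nat_lit 64) + List.length P72) (nat_lit 72))) = 0 := by decide +kernel
theorem v89c : dt.run q (fun c => Nat.add (c.chkL P89 (nat_lit 72)) (Nat.xor ((nat_lit 72) + List.length P89) (nat_lit 89))) = 0 := by decide +kernel
theorem v101c : dt.run q (fun c => Nat.add (c.chkL P101 (nat_lit 89)) (Nat.xor ((nat_lit 89) + List.length P101) (nat_lit 101))) = 0 := by decide +kernel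
theorem v109c : dt.run q (fun c => Nat.add (c.chkL P109 (nat_lit 101)) (Nat.xor ((nat_lit 101) + List.length P109) (nat_lit 109))) = 0 := by decide +kernel
theorem v116c : dt.run q (fun c => Nat.add (c.chkL P116 (nat_lit 109)) (Nat.xor ((nat_lit 109) + List.length P116) (nat_lit 116))) = 0 := by decide +kernel
theorem v122c : dt.run q (fun c => Nat.add (c.chkL P122 (nat_lit 116)) (Nat.xor ((nat_lit 116) + List.length P122) (nat_lit 122))) = 0 := by decide +kernel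
theorem v128c : dt.run q (fun c => Nat.add (c.chkL P128 (nat_lit 122)) (Nat.xor ((nat_lit 122) + List.length P128) (nat_lit 128))) = 0 := by decide +kernel
theorem v132c : dt.run q (fun c => Nat.add (c.chkL P132 (nat_lit 128)) (Nat.xor ((nat_lit 128) + List.length P132) (nat_lit 132))) = 0 := by decide +kernel
theorem v138c : dt.run q (fun c => Nat.add (c.chkL P138 (nat_lit 132)) (Nat.xor ((nat_lit 132) + List.length P138) (nat_lit 138))) = 0 := by decide +kernel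
theorem v142c : dt.run q (fun c => Nat.add (c.chkL P142 (nat_lit 138)) (Nat.xor ((nat_lit 138) + List.length P142) (nat_lit 142))) = 0 := by decide +kernel
theorem v147c : dt.run q (fun c => Nat.add (c.chkL P147 (nat_lit 142)) (Nat.xor ((nat_lit 142) + List.length P147) (nat_lit 147))) = 0 := by decide +kernel
theorem v151c : dt.run q (fun c => Nat.add (c.chkL P151 (nat_lit 147)) (Nat.xor ((nat_lit 147) + List.length P151) (nat_lit 151))) = 0 := by decide +kernel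
theorem v156c : dt.run q (fun c => Nat.add (c.chkL P156 (nat_lit 151)) (Nat.xor ((nat_lit 151) + List.length P156) (nat_lit 156))) = 0 := by decide +kernel
theorem v160c : dt.run q (fun c => Nat.add (c.chkL P160 (nat_lit 156)) (Nat.xor ((nat_lit 156) + List.length P160) (nat_lit 160))) = 0 := by decide +kernel
theorem v164c : dt.run q (fun c => Nat.add (c.chkL P164 (nat_lit 160)) (Nat.xor ((nat_lit 160) + List.length P164) (nat_lit 164))) = 0 := by decide +kernel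
theorem v168c : dt.run q (fun c => Nat.add (c.chkL P168 (nat_lit 164)) (Nat.xor ((nat_lit 164) + List.length P168) (nat_lit 168))) = 0 := by decide +kernel
theorem v172c : dt.run q (fun c => Nat.add (c.chkL P172 (nat_lit 168)) (Nat.xor ((nat_lit 168) + List.length P172) (nat_lit 172))) = 0 := by decide +kernel
theorem v177c : dt.run q (fun c => Nat.add (c.chkL P177 (nat_lit 172)) (Nat.xor ((nat_lit 172) + List.length P177) (nat_lit 177))) = 0 := by decide +kernel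
theorem v182c : dt.run q (fun c => Nat.add (c.chkL P182 (nat_lit 177)) (Nat.xor ((nat_lit 177) + List.length P182) (nat_lit 182))) = 0 := by decide +kernel
theorem v187c : dt.run q (fun c => Nat.add (c.chkL P187 (nat_lit 182)) (Nat.xor ((nat_lit 182) + List.length P187) (nat_lit 187))) = 0 := by decide +kernel
theorem v191c : dt.run q (fun c => Nat.add (c.chkL P191 (nat_lit 187)) (Nat.xor ((nat_lit 187) + List.length P191) (nat_lit 191))) = 0 := by decide +kernel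
theorem v196c : dt.run q (fun c => Nat.add (c.chkL P196 (nat_lit 191)) (Nat.xor ((nat_lit 191) + List.length P196) (nat_lit 196))) = 0 := by decide +kernel
theorem v211c : dt.run q (fun c => Nat.add (c.chkL P211 (nat_lit 196)) (Nat.xor ((nat_lit 196) + List.length P211) (nat_lit 211))) = 0 := by decide +kernel
theorem v214c : dt.run q (fun c => Nat.add (c.chkL P214 (nat_lit 211)) (Nat.xor ((nat_lit 211) + List.length P214) (nat_lit 214))) = 0 := by decide +kernel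
theorem st0c : dt.run q (fun c => sumL (c.sgen (nat_lit 214) (nat_lit 0)) S0) = 0 := by decide +kernel
theorem e0_1_1 : dt.run q (fun c => c.edges (SP LMn.T LMn.Rl (nat_lit 14)) (nat_lit 214) LMn.T.n (nat_lit 0) (nat_lit 1)
  [((nat_lit 96), [], [], (nat_lit 0))] (nat_lit 0) m0_1_1) = 0 := by decide +kernel
theorem e0_1_2 : reachX LMn.T (nat_lit 1385793832719201481) (S0.map Prod.snd) [nat_lit 0, nat_lit 1, nat_lit 0, nat_lit 1, nat_lit 2, nat_lit 0, nat_lit 1, nat_lit 0, nat_lit 1, nat_lit 2, nat_lit 1, nat_lit 0, nat_lit 1, nat_lit 0, nat_lit 2, nat_lit 1, nat_lit 0, nat_lit 1, nat_lit 0, nat_lit 2, nat_lit 1, nat_lit 0, nat_lit 1, nat_lit 2, nat_lit 0, nat_lit 1, nat_lit 0] m0_1_1 = m0_1_2 := by decide +kernel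
theorem pc0 : partChk LMn.T.n (nat_lit 771) [(nat_lit 0), m0_1_2, (nat_lit 0), (nat_lit 0), (nat_lit 0)] (nth [] aL (nat_lit 0)) = true ∧ nth 0 PL (nat_lit 0) = (nat_lit 0) := by decide +kernel
theorem st1c : dt.run q (fun c => sumL (c.sgen (nat_lit 214) (nat_lit 1)) S1) = 0 := by decide +kernel
theorem e1_0_1 : dt.run q (fun c => c.edges (SP LMn.T LMn.Rl (nat_lit 14)) (nat_lit 214) LMn.T.n (nat_lit 1) (nat_lit 0)
  [((nat_lit 97), [], [], (nat_lit 0))] (nat_lit 0) m1_0_1) = 0 := by decide +kernel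
theorem e1_1_1 : dt.run q (fun c => c.edges (SP LMn.T LMn.Rl (nat_lit 14)) (nat_lit 214) LMn.T.n (nat_lit 1) (nat_lit 1)
  [((nat_lit 110), [nat_lit 1, nat_lit 3, nat_lit 4, nat_lit 3, nat_lit 1, nat_lit 0], [nat_lit 42, nat_lit 43, nat_lit 22, nat_lit 29, nat_lit 16, nat_lit 12], (nat_lit 667))] (nat_lit 0) m1_1_1) = 0 := by decide +kernel
theorem e1_1_2 : reachX LMn.T (nat_lit 3684572268289096181) (S1.map Prod.snd) [nat_lit 0, nat_lit 1, nat_lit 2, nat_lit 0, nat_lit 1, nat_lit 3, nat_lit 0, nat_lit 1, nat_lit 2, nat_lit 1, nat_lit 3] m1_1_1 = m1_1_2 := by decide +kernel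
theorem e1_2_1 : dt.run q (fun c => c.edges (SP LMn.T LMn.Rl (nat_lit 14)) (nat_lit 214) LMn.T.n (nat_lit 1) (nat_lit 2)
  [((nat_lit 111), [nat_lit 0], [], (nat_lit 1))] (nat_lit 0) m1_2_1) = 0 := by decide +kernel
theorem e1_2_2 : reachX LMn.T (nat_lit 2461172832142334784) (S1.map Prod.snd) [nat_lit 2, nat_lit 0, nat_lit 1, nat_lit 3, nat_lit 0, nat_lit 1, nat_lit 2, nat_lit 0, nat_lit 1, nat_lit 3, nat_lit 0, nat_lit 1, nat_lit 2, nat_lit 0, nat_lit 1, nat_lit 3, nat_lit 2] m1_2_1 = m1_2_2 := by decide +kernel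
theorem e1_3_1 : dt.run q (fun c => c.edges (SP LMn.T LMn.Rl (nat_lit 14)) (nat_lit 214) LMn.T.n (nat_lit 1) (nat_lit 3)
  [((nat_lit 125), [nat_lit 1, nat_lit 0], [], (nat_lit 6))] (nat_lit 0) m1_3_1) = 0 := by decide +kernel
theorem e1_3_2 : reachX LMn.T (nat_lit 1925785804123889845) (S1.map Prod.snd) [nat_lit 2, nat_lit 0, nat_lit 1, nat_lit 3, nat_lit 0, nat_lit 1, nat_lit 2, nat_lit 0, nat_lit 1, nat_lit 3, nat_lit 0, nat_lit 1, nat_lit 2, nat_lit 0, nat_lit 1, nat_lit 3, nat_lit 0, nat_lit 1, nat_lit 2] m1_3_1 = m1_3_2 := by decide +kernel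
theorem e1_4_1 : dt.run q (fun c => c.edges (SP LMn.T LMn.Rl (nat_lit 14)) (nat_lit 214) LMn.T.n (nat_lit 1) (nat_lit 4)
  [((nat_lit 133), [nat_lit 4], [], (nat_lit 5))] (nat_lit 0) m1_4_1) = 0 := by decide +kernel
theorem e1_4_2 : reachX LMn.T (nat_lit 1470202297800639373) (S1.map Prod.snd) [nat_lit 0, nat_lit 1, nat_lit 2, nat_lit 0, nat_lit 1, nat_lit 3, nat_lit 0, nat_lit 1, nat_lit 2, nat_lit 0, nat_lit 1, nat_lit 3, nat_lit 0, nat_lit 1, nat_lit 2, nat_lit 0, nat_lit 1, nat_lit 3, nat_lit 0, nat_lit 1, nat_lit 2, nat_lit 0] m1_4_1 = m1_4_2 := by decide +kernel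
theorem pc1 : partChk LMn.T.n (nat_lit 771) [m1_0_1, m1_1_2, m1_2_2, m1_3_2, m1_4_2] (nth [] aL (nat_lit 1)) = true ∧ nth 0 PL (nat_lit 1) = (nat_lit 1) := by decide +kernel
theorem st2c : dt.run q (fun c => sumL (c.sgen (nat_lit 214) (nat_lit 2)) S2) = 0 := by decide +kernel
theorem e2_1_1 : dt.run q (fun c => c.edges (SP LMn.T LMn.Rl (nat_lit 14)) (nat_lit 214) LMn.T.n (nat_lit 2) (nat_lit 1)
  [((nat_lit 112), [], [], (nat_lit 0))] (nat_lit 0) m2_1_1) = 0 := by decide +kernel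
theorem e2_1_2 : reachX LMn.T (nat_lit 1257465622900837667) (S2.map Prod.snd) [nat_lit 0, nat_lit 0, nat_lit 2, nat_lit 0, nat_lit 1, nat_lit 0, nat_lit 2, nat_lit 0, nat_lit 0, nat_lit 2] m2_1_1 = m2_1_2 := by decide +kernel
theorem e2_2_1 : dt.run q (fun c => c.edges (SP LMn.T LMn.Rl (nat_lit 14)) (nat_lit 214) LMn.T.n (nat_lit 2) (nat_lit 2)
  [((nat_lit 124), [nat_lit 0, nat_lit 4, nat_lit 3, nat_lit 1, nat_lit 4, nat_lit 3, nat_lit 4], [nat_lit 58, nat_lit 50, nat_lit 57, nat_lit 0, nat_lit 10, nat_lit 12], (nat_lit 3778))] (nat_lit 0) m2_2_1) = 0 := by decide +kernel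
theorem e2_2_2 : reachX LMn.T (nat_lit 3452937756425461427) (S2.map Prod.snd) [nat_lit 0, nat_lit 1, nat_lit 0, nat_lit 2, nat_lit 0, nat_lit 1, nat_lit 0, nat_lit 2, nat_lit 0, nat_lit 1, nat_lit 0, nat_lit 1, nat_lit 2, nat_lit 0, nat_lit 0] m2_2_1 = m2_2_2 := by decide +kernel
theorem e2_3_1 : dt.run q (fun c => c.edges (SP LMn.T LMn.Rl (nat_lit 14)) (nat_lit 214) LMn.T.n (nat_lit 2) (nat_lit 3)
  [((nat_lit 129), [nat_lit 3, nat_lit 2, nat_lit 1, nat_lit 0], [nat_lit 21, nat_lit 57, nat_lit 49, nat_lit 6, nat_lit 10, nat_lit 12], (nat_lit 82)), ((nat_lit 164), [nat_lit 0, nat_lit 3, nat_lit 4, nat_lit 0, nat_lit 1, nat_lit 3, nat_lit 2, nat_lit 4], [nat_lit 23, nat_lit 43, nat_lit 49, nat_lit 6, nat_lit 19, nat_lit 16], (nat_lit 7192)), ((nat_lit 193), [nat_lit 2, nat_lit 4, nat_lit 7, nat_lit 1, nat_lit 2, nat_lit 1, nat_lit 3, nat_lit 4, nat_lit 2], [nat_lit 5, nat_lit 7, nat_lit 49, nat_lit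 6, nat_lit 19], (nat_lit 11070))] (nat_lit 0) m2_3_1) = 0 := by decide +kernel
theorem e2_3_2 : reachX LMn.T (nat_lit 2398549937347271004) (S2.map Prod.snd) [nat_lit 0, nat_lit 1, nat_lit 0, nat_lit 2, nat_lit 0, nat_lit 1, nat_lit 0, nat_lit 2, nat_lit 0, nat_lit 1, nat_lit 0, nat_lit 2, nat_lit 0, nat_lit 1, nat_lit 0, nat_lit 2, nat_lit 0] m2_3_1 = m2_3_2 := by decide +kernel
theorem e2_4_1 : dt.run q (fun c => c.edges (SP LMn.T LMn.Rl (nat_lit 14)) (nat_lit 214) LMn.T.n (nat_lit 2) (nat_lit 4)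
  [((nat_lit 142), [nat_lit 7, nat_lit 4, nat_lit 3, nat_lit 4, nat_lit 2, nat_lit 1, nat_lit 0], [nat_lit 7, nat_lit 57, nat_lit 20, nat_lit 7, nat_lit 20, nat_lit 16], (nat_lit 1679)), ((nat_lit 140), [nat_lit 1, nat_lit 4, nat_lit 0, nat_lit 3, nat_lit 4, nat_lit 2, nat_lit 3, nat_lit 4], [nat_lit 58, nat_lit 53, nat_lit 50, nat_lit 16, nat_lit 10], (nat_lit 8013)), ((nat_lit 147), [nat_lit 3, nat_lit 0, nat_lit 2, nat_lit 1, nat_lit 4, nat_lit 3, nat_lit 1, nat_lit 2, nat_lit 4], [nat_lit 33, nat_lit 7, nat_lit 6, nat_lit 16, nat_lit 10], (nat_lit 12706))] (nat_lit 0) m2_4_1) = 0 := by decide +kernel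
theorem e2_4_2 : reachX LMn.T (nat_lit 39712880383574831) (S2.map Prod.snd) [nat_lit 0, nat_lit 1, nat_lit 0, nat_lit 2, nat_lit 0, nat_lit 1, nat_lit 0, nat_lit 2, nat_lit 0, nat_lit 1, nat_lit 0, nat_lit 2, nat_lit 0, nat_lit 1, nat_lit 0, nat_lit 2, nat_lit 0, nat_lit 1, nat_lit 0] m2_4_1 = m2_4_2 := by decide +kernel
theorem pc2 : partChk LMn.T.n (nat_lit 771) [(nat_lit 0), m2_1_2, m2_2_2, m2_3_2, m2_4_2] (nth [] aL (nat_lit 2)) = true ∧ nth 0 PL (nat_lit 2) = (nat_lit 2) := by decide +kernel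
theorem st3c : dt.run q (fun c => sumL (c.sgen (nat_lit 214) (nat_lit 3)) S3) = 0 := by decide +kernel
theorem e3_1_1 : dt.run q (fun c => c.edges (SP LMn.T LMn.Rl (nat_lit 14)) (nat_lit 214) LMn.T.n (nat_lit 3) (nat_lit 1)
  [((nat_lit 126), [], [], (nat_lit 0))] (nat_lit 0) m3_1_1) = 0 := by decide +kernel
theorem e3_1_2 : reachX LMn.T (nat_lit 561998452921227740) (S3.map Prod.snd) [nat_lit 1, nat_lit 2, nat_lit 0, nat_lit 1, nat_lit 0, nat_lit 1, nat_lit 0] m3_1_1 = m3_1_2 := by decide +kernel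
theorem e3_2_1 : dt.run q (fun c => c.edges (SP LMn.T LMn.Rl (nat_lit 14)) (nat_lit 214) LMn.T.n (nat_lit 3) (nat_lit 2)
  [((nat_lit 128), [nat_lit 0, nat_lit 1, nat_lit 0], [nat_lit 50, nat_lit 7, nat_lit 37, nat_lit 50, nat_lit 10], (nat_lit 23)), ((nat_lit 163), [nat_lit 3, nat_lit 4, nat_lit 7, nat_lit 4, nat_lit 3, nat_lit 7, nat_lit 3, nat_lit 4], [nat_lit 30, nat_lit 49, nat_lit 46, nat_lit 7, nat_lit 20, nat_lit 16, nat_lit 12], (nat_lit 8208)), ((nat_lit 192), [nat_lit 4, nat_lit 1, nat_lit 3, nat_lit 4, nat_lit 0, nat_lit 2, nat_lit 4, nat_lit 0], [nat_lit 20, nat_lit 56, nat_lit 50, nat_lit 0, nat_lit 20, nat_lit 12], (nat_lit 4131))] (nat_lit 0) m3_2_1) = 0 := by decide +kernel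
theorem e3_2_2 : reachX LMn.T (nat_lit 1462415310997219303) (S3.map Prod.snd) [nat_lit 0, nat_lit 1, nat_lit 2, nat_lit 0, nat_lit 1, nat_lit 2, nat_lit 0, nat_lit 1, nat_lit 2, nat_lit 0, nat_lit 1, nat_lit 2, nat_lit 0, nat_lit 0] m3_2_1 = m3_2_2 := by decide +kernel
theorem e3_3_1 : dt.run q (fun c => c.edges (SP LMn.T LMn.Rl (nat_lit 14)) (nat_lit 214) LMn.T.n (nat_lit 3) (nat_lit 3)
  [((nat_lit 130), [nat_lit 3], [nat_lit 7, nat_lit 30, nat_lit 50, nat_lit 0, nat_lit 19, nat_lit 12], (nat_lit 4)), ((nat_lit 131), [nat_lit 4, nat_lit 3, nat_lit 4, nat_lit 3, nat_lit 2, nat_lit 4, nat_lit 3, nat_lit 2, nat_lit 4], [nat_lit 37, nat_lit 7, nat_lit 56, nat_lit 7, nat_lit 20, nat_lit 16, nat_lit 12], (nat_lit 12919)), ((nat_lit 194), [nat_lit 4, nat_lit 7, nat_lit 2, nat_lit 1, nat_lit 3, nat_lit 2, nat_lit 4, nat_lit 1], [nat_lit 32, nat_lit 42, nat_lit 50, nat_lit 0, nat_lit 19], (nat_lit 5107)),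 ((nat_lit 195), [nat_lit 2, nat_lit 7, nat_lit 1, nat_lit 3, nat_lit 4, nat_lit 2, nat_lit 4, nat_lit 0, nat_lit 1], [nat_lit 23, nat_lit 42, nat_lit 22, nat_lit 19], (nat_lit 9431)), ((nat_lit 165), [nat_lit 0, nat_lit 2, nat_lit 0, nat_lit 4, nat_lit 3, nat_lit 1, nat_lit 2, nat_lit 4, nat_lit 1], [nat_lit 21, nat_lit 7, nat_lit 18, nat_lit 6, nat_lit 12], (nat_lit 9947))] (nat_lit 0) m3_3_1) = 0 := by decide +kernel
theorem e3_3_2 : reachX LMn.T (nat_lit 3351799821824904270) (S3.map Prod.snd) [nat_lit 0, nat_lit 1, nat_lit 2, nat_lit 0, nat_lit 1, nat_lit 2, nat_lit 0, nat_lit 1, nat_lit 2, nat_lit 0, nat_lit 1, nat_lit 2, nat_lit 0, nat_lit 1, nat_lit 2, nat_lit 0] m3_3_1 = m3_3_2 := by decide +kernel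
theorem e3_4_1 : dt.run q (fun c => c.edges (SP LMn.T LMn.Rl (nat_lit 14)) (nat_lit 214) LMn.T.n (nat_lit 3) (nat_lit 4)
  [((nat_lit 181), [nat_lit 4, nat_lit 2, nat_lit 4, nat_lit 2, nat_lit 4, nat_lit 3, nat_lit 1, nat_lit 0], [nat_lit 18, nat_lit 6, nat_lit 50, nat_lit 0, nat_lit 10, nat_lit 12], (nat_lit 3966)), ((nat_lit 151), [nat_lit 4, nat_lit 0, nat_lit 2, nat_lit 1, nat_lit 4, nat_lit 3, nat_lit 1, nat_lit 2, nat_lit 4], [nat_lit 35, nat_lit 30, nat_lit 50, nat_lit 7, nat_lit 4], (nat_lit 12707)), ((nat_lit 190), [nat_lit 2, nat_lit 0, nat_lit 1, nat_lit 2, nat_lit 0, nat_lit 3, nat_lit 4, nat_lit 1], [nat_lit 11, nat_lit 57, nat_lit 29, nat_lit 22, nat_lit 20, nat_lit 16], (nat_lit 5173)), ((nat_lit 149), [nat_lit 1, nat_lit 4, nat_lit 1, nat_lit 2, nat_lit 1, nat_lit 4, nat_lit 1], [nat_lit 43, nat_lit 7, nat_lit 18, nat_lit 22, nat_lit 19, nat_lit 16], (nat_lit 2278))] (nat_lit 0)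 m3_4_1) = 0 := by decide +kernel
theorem e3_4_2 : dt.run q (fun c => c.edges (SP LMn.T LMn.Rl (nat_lit 14)) (nat_lit 214) LMn.T.n (nat_lit 3) (nat_lit 4)
  [((nat_lit 179), [nat_lit 4, nat_lit 2, nat_lit 1, nat_lit 4, nat_lit 3, nat_lit 4, nat_lit 1], [nat_lit 56, nat_lit 50, nat_lit 38, nat_lit 7, nat_lit 16], (nat_lit 2470)), ((nat_lit 185), [nat_lit 4, nat_lit 7, nat_lit 2, nat_lit 0, nat_lit 4, nat_lit 0, nat_lit 3, nat_lit 4, nat_lit 1], [nat_lit 15, nat_lit 35, nat_lit 22, nat_lit 22, nat_lit 20, nat_lit 16, nat_lit 12], (nat_lit 10184)), ((nat_lit 167), [nat_lit 0, nat_lit 3, nat_lit 4, nat_lit 7, nat_lit 2, nat_lit 1, nat_lit 3, nat_lit 4, nat_lit 2], [nat_lit 49, nat_lit 44, nat_lit 41, nat_lit 10], (nat_lit 11112))] m3_4_1 m3_4_2) = 0 := by decide +kernel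
theorem e3_4_3 : reachX LMn.T (nat_lit 3618820809421274950) (S3.map Prod.snd) [nat_lit 0, nat_lit 1, nat_lit 2, nat_lit 0, nat_lit 1, nat_lit 2, nat_lit 0, nat_lit 1, nat_lit 2, nat_lit 0, nat_lit 1, nat_lit 2, nat_lit 0, nat_lit 1, nat_lit 2, nat_lit 0, nat_lit 0] m3_4_2 = m3_4_3 := by decide +kernel
theorem pc3 : partChk LMn.T.n (nat_lit 771) [(nat_lit 0), m3_1_2, m3_2_2, m3_3_2, m3_4_3] (nth [] aL (nat_lit 3)) = true ∧ nth 0 PL (nat_lit 3) = (nat_lit 3) := by decide +kernel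
theorem st4c : dt.run q (fun c => sumL (c.sgen (nat_lit 214) (nat_lit 4)) S4) = 0 := by decide +kernel
theorem e4_1_1 : dt.run q (fun c => c.edges (SP LMn.T LMn.Rl (nat_lit 14)) (nat_lit 214) LMn.T.n (nat_lit 4) (nat_lit 1)
  [((nat_lit 134), [], [], (nat_lit 0))] (nat_lit 0) m4_1_1) = 0 := by decide +kernel
theorem e4_1_2 : reachX LMn.T (nat_lit 2643003355015365521) (S4.map Prod.snd) [nat_lit 0, nat_lit 1, nat_lit 0, nat_lit 1, nat_lit 2, nat_lit 1] m4_1_1 = m4_1_2 := by decide +kernel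
theorem e4_2_1 : dt.run q (fun c => c.edges (SP LMn.T LMn.Rl (nat_lit 14)) (nat_lit 214) LMn.T.n (nat_lit 4) (nat_lit 2)
  [((nat_lit 139), [nat_lit 1, nat_lit 2, nat_lit 4, nat_lit 2, nat_lit 0, nat_lit 4, nat_lit 3], [nat_lit 31, nat_lit 49, nat_lit 16, nat_lit 6, nat_lit 16], (nat_lit 2802)), ((nat_lit 141), [nat_lit 3, nat_lit 2, nat_lit 4, nat_lit 2, nat_lit 0, nat_lit 4, nat_lit 3], [nat_lit 20, nat_lit 22, nat_lit 22, nat_lit 0, nat_lit 16, nat_lit 10, nat_lit 12], (nat_lit 2803)), ((nat_lit 146), [nat_lit 1, nat_lit 0, nat_lit 3, nat_lit 0, nat_lit 1, nat_lit 2, nat_lit 0, nat_lit 4, nat_lit 0], [nat_lit 22, nat_lit 42, nat_lit 22, nat_lit 44, nat_lit 20], (nat_lit 8512))] (nat_lit 0) m4_2_1) = 0 := by decide +kernel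
theorem e4_2_2 : reachX LMn.T (nat_lit 2083623192615708319) (S4.map Prod.snd) [nat_lit 0, nat_lit 1, nat_lit 0, nat_lit 2, nat_lit 0, nat_lit 1, nat_lit 0, nat_lit 2, nat_lit 0, nat_lit 1, nat_lit 0, nat_lit 2, nat_lit 0] m4_2_1 = m4_2_2 := by decide +kernel
theorem e4_3_1 : dt.run q (fun c => c.edges (SP LMn.T LMn.Rl (nat_lit 14)) (nat_lit 214) LMn.T.n (nat_lit 4) (nat_lit 3)
  [((nat_lit 180), [nat_lit 1, nat_lit 4, nat_lit 1, nat_lit 0, nat_lit 3, nat_lit 1, nat_lit 2, nat_lit 4, nat_lit 1], [nat_lit 7, nat_lit 56, nat_lit 22, nat_lit 4, nat_lit 20, nat_lit 16], (nat_lit 9912)), ((nat_lit 186), [nat_lit 3, nat_lit 4, nat_lit 3, nat_lit 1, nat_lit 4, nat_lit 3, nat_lit 4, nat_lit 2, nat_lit 4], [nat_lit 58, nat_lit 12, nat_lit 22, nat_lit 50, nat_lit 19], (nat_lit 13074)), ((nat_lit 182), [nat_lit 2, nat_lit 3, nat_lit 4, nat_lit 2, nat_lit 0, nat_lit 4, nat_lit 3], [nat_lit 57, nat_lit 49, nat_lit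 29, nat_lit 0], (nat_lit 2805)), ((nat_lit 150), [nat_lit 1, nat_lit 2, nat_lit 3, nat_lit 4, nat_lit 0, nat_lit 1, nat_lit 2, nat_lit 4, nat_lit 0], [nat_lit 10, nat_lit 58, nat_lit 49, nat_lit 14], (nat_lit 8686))] (nat_lit 0) m4_3_1) = 0 := by decide +kernel
theorem e4_3_2 : dt.run q (fun c => c.edges (SP LMn.T LMn.Rl (nat_lit 14)) (nat_lit 214) LMn.T.n (nat_lit 4) (nat_lit 3)
  [((nat_lit 148), [nat_lit 3, nat_lit 1, nat_lit 2, nat_lit 4, nat_lit 7, nat_lit 1, nat_lit 2, nat_lit 4, nat_lit 0], [nat_lit 19, nat_lit 4, nat_lit 50, nat_lit 7, nat_lit 16], (nat_lit 8766)), ((nat_lit 166), [nat_lit 4, nat_lit 1, nat_lit 2, nat_lit 4, nat_lit 2, nat_lit 4, nat_lit 3, nat_lit 4, nat_lit 1], [nat_lit 5, nat_lit 22, nat_lit 55, nat_lit 8], (nat_lit 10439)), ((nat_lit 191), [nat_lit 7, nat_lit 4, nat_lit 0, nat_lit 3, nat_lit 1, nat_lit 2, nat_lit 4, nat_lit 1], [nat_lit 46, nat_lit 58, nat_lit 36, nat_lit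 7, nat_lit 16], (nat_lit 5047))] m4_3_1 m4_3_2) = 0 := by decide +kernel
theorem e4_3_3 : reachX LMn.T (nat_lit 1289484031258965941) (S4.map Prod.snd) [nat_lit 0, nat_lit 1, nat_lit 0, nat_lit 2, nat_lit 1, nat_lit 0, nat_lit 1, nat_lit 0, nat_lit 2, nat_lit 1, nat_lit 0, nat_lit 2, nat_lit 1, nat_lit 0] m4_3_2 = m4_3_3 := by decide +kernel
theorem e4_4_1 : dt.run q (fun c => c.edges (SP LMn.T LMn.Rl (nat_lit 14)) (nat_lit 214) LMn.T.n (nat_lit 4) (nat_lit 4)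
  [((nat_lit 173), [nat_lit 1, nat_lit 2, nat_lit 4, nat_lit 2, nat_lit 0, nat_lit 4], [nat_lit 16, nat_lit 43, nat_lit 22, nat_lit 0, nat_lit 19], (nat_lit 1275)), ((nat_lit 161), [nat_lit 1], [nat_lit 49, nat_lit 57, nat_lit 57, nat_lit 7, nat_lit 0, nat_lit 19, nat_lit 16], (nat_lit 2)), ((nat_lit 154), [nat_lit 1, nat_lit 4, nat_lit 3, nat_lit 2, nat_lit 4, nat_lit 2, nat_lit 1, nat_lit 3, nat_lit 4], [nat_lit 57, nat_lit 5, nat_lit 49, nat_lit 0, nat_lit 10, nat_lit 12], (nat_lit 13334)), ((nat_lit 157), [nat_lit 4, nat_lit 2, nat_lit 4, nat_lit 7, nat_lit 3, nat_lit 4, nat_lit 0], [nat_lit 41, nat_lit 41, nat_lit 50, nat_lit 10, nat_lit 12], (nat_lit 1937)), ((nat_lit 153), [nat_lit 1, nat_lit 2, nat_lit 3, nat_lit 4, nat_lit 7, nat_lit 3, nat_lit 4, nat_lit 3, nat_lit 2, nat_lit 1], [nat_lit 31, nat_lit 49, nat_lit 7, nat_lit 1, nat_lit 20, nat_lit 16, nat_lit 12], (nat_lit 14359))] (nat_lit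 0) m4_4_1) = 0 := by decide +kernel
theorem e4_4_2 : dt.run q (fun c => c.edges (SP LMn.T LMn.Rl (nat_lit 14)) (nat_lit 214) LMn.T.n (nat_lit 4) (nat_lit 4)
  [((nat_lit 168), [nat_lit 2, nat_lit 0, nat_lit 1, nat_lit 3, nat_lit 4, nat_lit 2, nat_lit 4], [nat_lit 49, nat_lit 7, nat_lit 57, nat_lit 8, nat_lit 16, nat_lit 10], (nat_lit 3461)), ((nat_lit 156), [nat_lit 0, nat_lit 2], [nat_lit 19, nat_lit 55, nat_lit 22, nat_lit 0, nat_lit 19], (nat_lit 12)), ((nat_lit 155), [nat_lit 4, nat_lit 2, nat_lit 4, nat_lit 3, nat_lit 4, nat_lit 2, nat_lit 3, nat_lit 4, nat_lit 2], [nat_lit 37, nat_lit 4, nat_lit 50, nat_lit 7, nat_lit 16, nat_lit 12], (nat_lit 11234)), ((nat_lit 188), [nat_lit 4, nat_lit 1, nat_lit 3, nat_lit 0, nat_lit 4], [nat_lit 41, nat_lit 41, nat_lit 50, nat_lit 16, nat_lit 10, nat_lit 12], (nat_lit 504)), ((nat_lit 187), [nat_lit 0, nat_lit 4, nat_lit 2, nat_lit 4, nat_lit 3, nat_lit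 1, nat_lit 4, nat_lit 2], [nat_lit 29, nat_lit 49, nat_lit 57, nat_lit 14, nat_lit 20, nat_lit 16, nat_lit 12], (nat_lit 5559))] m4_4_1 m4_4_2) = 0 := by decide +kernel
theorem e4_4_3 : dt.run q (fun c => c.edges (SP LMn.T LMn.Rl (nat_lit 14)) (nat_lit 214) LMn.T.n (nat_lit 4) (nat_lit 4)
  [((nat_lit 176), [nat_lit 4, nat_lit 1, nat_lit 3, nat_lit 2, nat_lit 4, nat_lit 2, nat_lit 1, nat_lit 0], [nat_lit 50, nat_lit 56, nat_lit 29, nat_lit 16, nat_lit 10, nat_lit 12], (nat_lit 3945)), ((nat_lit 172), [nat_lit 2, nat_lit 3, nat_lit 4, nat_lit 7, nat_lit 3, nat_lit 1, nat_lit 2, nat_lit 4], [nat_lit 46, nat_lit 49, nat_lit 57, nat_lit 18, nat_lit 19, nat_lit 16, nat_lit 12], (nat_lit 7132)), ((nat_lit 178), [nat_lit 1, nat_lit 2, nat_lit 7, nat_lit 2, nat_lit 1, nat_lit 3, nat_lit 4, nat_lit 2, nat_lit 4], [nat_lit 57, nat_lit 50, nat_lit 32, nat_lit 20, nat_lit 12], (nat_lit 13047)), ((nat_lit 171),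 [nat_lit 7, nat_lit 2, nat_lit 1, nat_lit 4, nat_lit 1, nat_lit 3, nat_lit 2, nat_lit 4], [nat_lit 16, nat_lit 49, nat_lit 18, nat_lit 7, nat_lit 20, nat_lit 16, nat_lit 12], (nat_lit 7224))] m4_4_2 m4_4_3) = 0 := by decide +kernel
theorem e4_4_4 : dt.run q (fun c => c.edges (SP LMn.T LMn.Rl (nat_lit 14)) (nat_lit 214) LMn.T.n (nat_lit 4) (nat_lit 4)
  [((nat_lit 189), [nat_lit 2, nat_lit 1, nat_lit 3, nat_lit 4, nat_lit 3, nat_lit 0, nat_lit 1], [nat_lit 50, nat_lit 50, nat_lit 43, nat_lit 4, nat_lit 19, nat_lit 12], (nat_lit 1977)), ((nat_lit 159), [nat_lit 0, nat_lit 2, nat_lit 1, nat_lit 3, nat_lit 4, nat_lit 2, nat_lit 4, nat_lit 0], [nat_lit 6, nat_lit 30, nat_lit 7, nat_lit 10, nat_lit 12], (nat_lit 4239)), ((nat_lit 158), [nat_lit 1, nat_lit 2, nat_lit 4, nat_lit 3, nat_lit 0, nat_lit 1, nat_lit 3, nat_lit 4, nat_lit 0], [nat_lit 53, nat_lit 50, nat_lit 16, nat_lit 6, nat_lit 16], (nat_lit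 8980)), ((nat_lit 184), [nat_lit 1, nat_lit 3, nat_lit 4, nat_lit 2, nat_lit 4, nat_lit 2, nat_lit 1], [nat_lit 11, nat_lit 56, nat_lit 16, nat_lit 7, nat_lit 10, nat_lit 12], (nat_lit 2136))] m4_4_3 m4_4_4) = 0 := by decide +kernel
theorem e4_4_5 : dt.run q (fun c => c.edges (SP LMn.T LMn.Rl (nat_lit 14)) (nat_lit 214) LMn.T.n (nat_lit 4) (nat_lit 4)
  [((nat_lit 174), [nat_lit 4, nat_lit 2, nat_lit 4, nat_lit 3, nat_lit 2, nat_lit 1, nat_lit 3, nat_lit 2, nat_lit 4], [nat_lit 56, nat_lit 20, nat_lit 43, nat_lit 7, nat_lit 19, nat_lit 16], (nat_lit 12831)), ((nat_lit 160), [nat_lit 1, nat_lit 2, nat_lit 0, nat_lit 1], [nat_lit 50, nat_lit 57, nat_lit 11, nat_lit 50, nat_lit 20, nat_lit 16, nat_lit 12], (nat_lit 98)), ((nat_lit 169), [nat_lit 2, nat_lit 1, nat_lit 3, nat_lit 4, nat_lit 1, nat_lit 2, nat_lit 3, nat_lit 4, nat_lit 3], [nat_lit 19, nat_lit 43, nat_lit 22, nat_lit 57, nat_lit 20, nat_lit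 12], (nat_lit 11798)), ((nat_lit 162), [nat_lit 1, nat_lit 3, nat_lit 4, nat_lit 7, nat_lit 3, nat_lit 4, nat_lit 1, nat_lit 2, nat_lit 1], [nat_lit 41, nat_lit 21, nat_lit 49, nat_lit 4, nat_lit 12], (nat_lit 9520))] m4_4_4 m4_4_5) = 0 := by decide +kernel
theorem e4_4_6 : dt.run q (fun c => c.edges (SP LMn.T LMn.Rl (nat_lit 14)) (nat_lit 214) LMn.T.n (nat_lit 4) (nat_lit 4)
  [((nat_lit 170), [nat_lit 4, nat_lit 1, nat_lit 3, nat_lit 4, nat_lit 3, nat_lit 7, nat_lit 3, nat_lit 0, nat_lit 4], [nat_lit 1, nat_lit 37, nat_lit 50, nat_lit 16, nat_lit 10, nat_lit 12], (nat_lit 12223)), ((nat_lit 183), [nat_lit 1, nat_lit 3, nat_lit 2, nat_lit 4, nat_lit 2, nat_lit 7, nat_lit 2, nat_lit 4], [nat_lit 55, nat_lit 19, nat_lit 7, nat_lit 1, nat_lit 16, nat_lit 10], (nat_lit 7586)), ((nat_lit 175), [nat_lit 1, nat_lit 3, nat_lit 4, nat_lit 1, nat_lit 3, nat_lit 0, nat_lit 4], [nat_lit 58, nat_lit 34, nat_lit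 49, nat_lit 12], (nat_lit 3059)), ((nat_lit 152), [nat_lit 4, nat_lit 0, nat_lit 2, nat_lit 1, nat_lit 4, nat_lit 3, nat_lit 1, nat_lit 2, nat_lit 4], [nat_lit 32, nat_lit 44, nat_lit 49, nat_lit 6], (nat_lit 12707))] m4_4_5 m4_4_6) = 0 := by decide +kernel
theorem e4_4_7 : dt.run q (fun c => c.edges (SP LMn.T LMn.Rl (nat_lit 14)) (nat_lit 214) LMn.T.n (nat_lit 4) (nat_lit 4)
  [((nat_lit 177), [nat_lit 7, nat_lit 2, nat_lit 1, nat_lit 4, nat_lit 1, nat_lit 3, nat_lit 2, nat_lit 4, nat_lit 2], [nat_lit 21, nat_lit 50, nat_lit 55, nat_lit 0, nat_lit 20, nat_lit 12], (nat_lit 10885))] m4_4_6 m4_4_7) = 0 := by decide +kernel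
theorem e4_4_8 : reachX LMn.T (nat_lit 2094360964807621189) (S4.map Prod.snd) [nat_lit 0, nat_lit 1, nat_lit 0, nat_lit 2, nat_lit 1, nat_lit 0, nat_lit 1, nat_lit 0, nat_lit 2, nat_lit 1, nat_lit 0, nat_lit 2, nat_lit 1, nat_lit 0] m4_4_7 = m4_4_8 := by decide +kernel
theorem pc4 : partChk LMn.T.n (nat_lit 771) [(nat_lit 0), m4_1_2, m4_2_2, m4_3_3, m4_4_8] (nth [] aL (nat_lit 4)) = true ∧ nth 0 PL (nat_lit 4) = (nat_lit 4) := by decide +kernel
theorem kgc : dt.run q (fun c => sumL (c.kgen (nat_lit 214)) KG) = 0 := by decide +kernel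
theorem num : Num (dt.ck q) PL [nat_lit 1, nat_lit 15400, nat_lit 534600, nat_lit 1871100, nat_lit 7185024] aL 9606125 ∧ KG.map Prod.snd = LMn.U ∧ PL.length = 5 := by decide +kernel
theorem ivc : dt.run q (fun c => c.ivc) = true := by decide +kernel
theorem parc : (RlA (dt.ck q).K LMn.Rl (dt.ck q).Rt = LMm.RA ∧ (dt.ck q).K = 8 ∧ (dt.ck q).K + 2 = 10) ∧ (∀ d ∈ (dt.ck q).D, ltAll (dt.ck q).K d.2 = 0) ∧
    PL.map (fun j => pw (dt.ck q).K (dt.ck q).D (j + 1) j) = Ws := by decide +kernel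

end H16.LMc
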