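import Cfsg.Agent.H16.D.LMm
import Cfsg.Agent.H16.D.LMc.R0
import Cfsg.Agent.H16.D.LMc.R1
import Cfsg.Agent.H16.D.LMc.R2

/-! Generated by tools/h16 (computation kit). -/

set_option maxRecDepth 100000
set_option maxHeartbeats 0

namespace H16.LMc

open H26 (jn)
open DC
open DC
abbrev q := DLY.q
theorem qok : q.OK := DLY.qok
noncomputable abbrev C := LMm.C
noncomputable def F : FT := (.node (.node (.node (.node (.node (.node (.node (.node 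
 (.leaf f0) 
 (.leaf f128)) (.node 
 (.leaf f64) 
 (.leaf f192))) (.node (.node 
 (.leaf f32) 
 (.leaf f160)) 
 (.leaf f96))) (.node (.node (.node 
 (.leaf f16) 
 (.leaf f144)) (.node 
 (.leaf f80) 
 (.leaf f208))) (.node (.node 
 (.leaf f48) 
 (.leaf f176)) 
 (.leaf f112)))) (.node (.node (.node (.node 
 (.leaf f8) 
 (.leaf f136)) (.node 
 (.leaf f72) 
 (.leaf f200))) (.node (.node 
 (.leaf f40) 
 (.leaf f168)) 
 (.leaf f104))) (.node (.node (.node 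
 (.leaf f24) 
 (.leaf f152)) 
 (.leaf f88)) (.node (.node 
 (.leaf f56) 
 (.leaf f184)) 
 (.leaf f120))))) (.node (.node (.node (.node (.node 
 (.leaf f4) 
 (.leaf f132)) (.node 
 (.leaf f68) 
 (.leaf f196))) (.node (.node 
 (.leaf f36) 
 (.leaf f164)) 
 (.leaf f100))) (.node (.node (.node 
 (.leaf f20) 
 (.leaf f148)) (.node 
 (.leaf f84) 
 (.leaf f212))) (.node (.node 
 (.leaf f52) 
 (.leaf f180)) 
 (.leaf f116)))) (.node (.node (.node (.node 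
 (.leaf f12) 
 (.leaf f140)) (.node 
 (.leaf f76) 
 (.leaf f204))) (.node (.node 
 (.leaf f44) 
 (.leaf f172)) 
 (.leaf f108))) (.node (.node (.node 
 (.leaf f28) 
 (.leaf f156)) 
 (.leaf f92)) (.node (.node 
 (.leaf f60) 
 (.leaf f188)) 
 (.leaf f124)))))) (.node (.node (.node (.node (.node (.node 
 (.leaf f2) 
 (.leaf f130)) (.node 
 (.leaf f66) 
 (.leaf f194))) (.node (.node 
 (.leaf f34) 
 (.leaf f162)) 
 (.leaf f98))) (.node (.node (.node 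
 (.leaf f18) 
 (.leaf f146)) (.node 
 (.leaf f82) 
 (.leaf f210))) (.node (.node 
 (.leaf f50) 
 (.leaf f178)) 
 (.leaf f114)))) (.node (.node (.node (.node 
 (.leaf f10) 
 (.leaf f138)) (.node 
 (.leaf f74) 
 (.leaf f202))) (.node (.node 
 (.leaf f42) 
 (.leaf f170)) 
 (.leaf f106))) (.node (.node (.node 
 (.leaf f26) 
 (.leaf f154)) 
 (.leaf f90)) (.node (.node 
 (.leaf f58) 
 (.leaf f186)) 
 (.leaf f122))))) (.node (.node (.node (.node (.node 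
 (.leaf f6) 
 (.leaf f134)) (.node 
 (.leaf f70) 
 (.leaf f198))) (.node (.node 
 (.leaf f38) 
 (.leaf f166)) 
 (.leaf f102))) (.node (.node (.node 
 (.leaf f22) 
 (.leaf f150)) 
 (.leaf f86)) (.node (.node 
 (.leaf f54) 
 (.leaf f182)) 
 (.leaf f118)))) (.node (.node (.node (.node 
 (.leaf f14) 
 (.leaf f142)) (.node 
 (.leaf f78) 
 (.leaf f206))) (.node (.node 
 (.leaf f46) 
 (.leaf f174)) 
 (.leaf f110))) (.node (.node (.node 
 (.leaf f30) 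
 (.leaf f158)) 
 (.leaf f94)) (.node (.node 
 (.leaf f62) 
 (.leaf f190)) 
 (.leaf f126))))))) (.node (.node (.node (.node (.node (.node (.node 
 (.leaf f1) 
 (.leaf f129)) (.node 
 (.leaf f65) 
 (.leaf f193))) (.node (.node 
 (.leaf f33) 
 (.leaf f161)) 
 (.leaf f97))) (.node (.node (.node 
 (.leaf f17) 
 (.leaf f145)) (.node 
 (.leaf f81) 
 (.leaf f209))) (.node (.node 
 (.leaf f49) 
 (.leaf f177)) 
 (.leaf f113)))) (.node (.node (.node (.node 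
 (.leaf f9) 
 (.leaf f137)) (.node 
 (.leaf f73) 
 (.leaf f201))) (.node (.node 
 (.leaf f41) 
 (.leaf f169)) 
 (.leaf f105))) (.node (.node (.node 
 (.leaf f25) 
 (.leaf f153)) 
 (.leaf f89)) (.node (.node 
 (.leaf f57) 
 (.leaf f185)) 
 (.leaf f121))))) (.node (.node (.node (.node (.node 
 (.leaf f5) 
 (.leaf f133)) (.node 
 (.leaf f69) 
 (.leaf f197))) (.node (.node 
 (.leaf f37) 
 (.leaf f165)) 
 (.leaf f101))) (.node (.node (.node 
 (.leaf f21) 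
 (.leaf f149)) (.node 
 (.leaf f85) 
 (.leaf f213))) (.node (.node 
 (.leaf f53) 
 (.leaf f181)) 
 (.leaf f117)))) (.node (.node (.node (.node 
 (.leaf f13) 
 (.leaf f141)) (.node 
 (.leaf f77) 
 (.leaf f205))) (.node (.node 
 (.leaf f45) 
 (.leaf f173)) 
 (.leaf f109))) (.node (.node (.node 
 (.leaf f29) 
 (.leaf f157)) 
 (.leaf f93)) (.node (.node 
 (.leaf f61) 
 (.leaf f189)) 
 (.leaf f125)))))) (.node (.node (.node (.node (.node (.node 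
 (.leaf f3) 
 (.leaf f131)) (.node 
 (.leaf f67) 
 (.leaf f195))) (.node (.node 
 (.leaf f35) 
 (.leaf f163)) 
 (.leaf f99))) (.node (.node (.node 
 (.leaf f19) 
 (.leaf f147)) (.node 
 (.leaf f83) 
 (.leaf f211))) (.node (.node 
 (.leaf f51) 
 (.leaf f179)) 
 (.leaf f115)))) (.node (.node (.node (.node 
 (.leaf f11) 
 (.leaf f139)) (.node 
 (.leaf f75) 
 (.leaf f203))) (.node (.node 
 (.leaf f43) 
 (.leaf f171)) 
 (.leaf f107))) (.node (.node (.node 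
 (.leaf f27) 
 (.leaf f155)) 
 (.leaf f91)) (.node (.node 
 (.leaf f59) 
 (.leaf f187)) 
 (.leaf f123))))) (.node (.node (.node (.node (.node 
 (.leaf f7) 
 (.leaf f135)) (.node 
 (.leaf f71) 
 (.leaf f199))) (.node (.node 
 (.leaf f39) 
 (.leaf f167)) 
 (.leaf f103))) (.node (.node (.node 
 (.leaf f23) 
 (.leaf f151)) 
 (.leaf f87)) (.node (.node 
 (.leaf f55) 
 (.leaf f183)) 
 (.leaf f119)))) (.node (.node (.node (.node 
 (.leaf f15) 
 (.leaf f143)) (.node 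
 (.leaf f79) 
 (.leaf f207))) (.node (.node 
 (.leaf f47) 
 (.leaf f175)) 
 (.leaf f111))) (.node (.node (.node 
 (.leaf f31) 
 (.leaf f159)) 
 (.leaf f95)) (.node (.node 
 (.leaf f63) 
 (.leaf f191)) 
 (.leaf f127))))))))
noncomputable def D : List (ℕ × List ℕ) := [((nat_lit 0), []), ((nat_lit 0), []), ((nat_lit 1), [nat_lit 0]), ((nat_lit 1), [nat_lit 1, nat_lit 0]), ((nat_lit 1), [nat_lit 4])]
noncomputable def R : List (List ℕ × ℕ) := [([a126, a126], nat_lit 0), ([a238, a238, a238], nat_lit 0), ([a238, a238, a238], nat_lit 0)]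
noncomputable def Ds : List (List (List ℕ) × Ce) := [([[],
  []], [([], (nat_lit 8), false)]), ([[nat_lit 3, nat_lit 2, nat_lit 3, nat_lit 2, nat_lit 1],
  [nat_lit 3, nat_lit 2, nat_lit 3, nat_lit 2, nat_lit 1],
  [nat_lit 3, nat_lit 2, nat_lit 3, nat_lit 2, nat_lit 1]], [([], (nat_lit 9), false)]), ([[nat_lit 1, nat_lit 2, nat_lit 3, nat_lit 2, nat_lit 3],
  [nat_lit 1, nat_lit 2, nat_lit 3, nat_lit 2, nat_lit 3],
  [nat_lit 1, nat_lit 2, nat_lit 3, nat_lit 2, nat_lit 3]], [([nat_lit 8, nat_lit 1, nat_lit 2, nat_lit 3, nat_lit 2, nat_lit 3, nat_lit 8, nat_lit 1, nat_lit 2, nat_lit 3, nat_lit 2, nat_lit 3], (nat_lit 8), false), ([nat_lit 8, nat_lit 1, nat_lit 2, nat_lit 3, nat_lit 2, nat_lit 3], (nat_lit 8), false), ([], (nat_lit 8), false), ([nat_lit 3, nat_lit 2, nat_lit 3, nat_lit 2, nat_lit 1], (nat_lit 9), true)])]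
noncomputable def P6 : List Pf := [.kb [nat_lit 5] [nat_lit 3, nat_lit 1, nat_lit 7, nat_lit 3, nat_lit 0, nat_lit 7, nat_lit 2, nat_lit 1, nat_lit 0, nat_lit 2] [([], (nat_lit 0), false)],
  .kb [nat_lit 7] [nat_lit 7] [([], (nat_lit 1), false)],
  .kb [nat_lit 2, nat_lit 0, nat_lit 7, nat_lit 3] [nat_lit 3, nat_lit 0, nat_lit 7, nat_lit 2] [([], (nat_lit 2), false)],
  .kb [nat_lit 3, nat_lit 1, nat_lit 7, nat_lit 3, nat_lit 0, nat_lit 7, nat_lit 2, nat_lit 1, nat_lit 0, nat_lit 2] [nat_lit 5] [([], (nat_lit 3), false)],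
  .kb [nat_lit 1, nat_lit 3, nat_lit 0, nat_lit 3, nat_lit 1, nat_lit 2] [nat_lit 5, nat_lit 2, nat_lit 3, nat_lit 7, nat_lit 0] [([], (nat_lit 4), false)],
  .kb [nat_lit 0, nat_lit 3, nat_lit 2] [nat_lit 2, nat_lit 3, nat_lit 1, nat_lit 7, nat_lit 3, nat_lit 0, nat_lit 7, nat_lit 2, nat_lit 1, nat_lit 3, nat_lit 2, nat_lit 7] [([], (nat_lit 5), false)]]
noncomputable def P8 : List Pf := [.kb [nat_lit 1, nat_lit 2, nat_lit 3, nat_lit 1, nat_lit 2, nat_lit 0, nat_lit 1, nat_lit 2] [nat_lit 3, nat_lit 7, nat_lit 1, nat_lit 0, nat_lit 2, nat_lit 1, nat_lit 3, nat_lit 1] [([], (nat_lit 6), false)],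
  .kb [nat_lit 3, nat_lit 1, nat_lit 4, nat_lit 2, nat_lit 4, nat_lit 2, nat_lit 1, nat_lit 4, nat_lit 0, nat_lit 3, nat_lit 7, nat_lit 1, nat_lit 0, nat_lit 2, nat_lit 3, nat_lit 0, nat_lit 2, nat_lit 4, nat_lit 1, nat_lit 2, nat_lit 4] [nat_lit 3, nat_lit 1, nat_lit 4, nat_lit 2, nat_lit 4, nat_lit 2, nat_lit 1, nat_lit 4, nat_lit 0, nat_lit 3, nat_lit 1, nat_lit 2, nat_lit 3, nat_lit 0, nat_lit 4, nat_lit 0, nat_lit 3, nat_lit 0, nat_lit 1, nat_lit 7, nat_lit 3] [([], (nat_lit 7), false)]]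
noncomputable def P17 : List Pf := [.ki (nat_lit 0),
  .ki (nat_lit 1),
  .kp [nat_lit 9, nat_lit 2],
  .ki (nat_lit 10),
  .kp [nat_lit 11, nat_lit 9, nat_lit 9, nat_lit 11, nat_lit 9, nat_lit 9, nat_lit 8, nat_lit 0],
  .ki (nat_lit 12),
  .ki (nat_lit 3),
  .ki (nat_lit 4),
  .kp [nat_lit 8, nat_lit 9, nat_lit 14, nat_lit 15, nat_lit 12, nat_lit 8, nat_lit 14, nat_lit 3, nat_lit 9, nat_lit 4, nat_lit 0, nat_lit 13, nat_lit 1]]
noncomputable def P29 : List Pf := [.ki (nat_lit 16),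
  .ki (nat_lit 5),
  .kp [nat_lit 15, nat_lit 17, nat_lit 16, nat_lit 14, nat_lit 16, nat_lit 5, nat_lit 15, nat_lit 14],
  .ki (nat_lit 19),
  .ki (nat_lit 6),
  .ki (nat_lit 7),
  .kp [nat_lit 8, nat_lit 20, nat_lit 20],
  .ki (nat_lit 23),
  .kp [nat_lit 10, nat_lit 11, nat_lit 9],
  .ki (nat_lit 25),
  .kp [nat_lit 14, nat_lit 0, nat_lit 14],
  .ki (nat_lit 27)]
noncomputable def P40 : List Pf := [.kp [nat_lit 5, nat_lit 12, nat_lit 14],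
  .ki (nat_lit 29),
  .kp [nat_lit 27, nat_lit 24, nat_lit 12],
  .ki (nat_lit 31),
  .kp [nat_lit 14, nat_lit 13, nat_lit 28],
  .ki (nat_lit 33),
  .kp [nat_lit 19, nat_lit 1, nat_lit 19],
  .ki (nat_lit 35),
  .kp [nat_lit 5, nat_lit 23, nat_lit 32],
  .ki (nat_lit 37),
  .kp [nat_lit 9, nat_lit 26, nat_lit 8]]
noncomputable def P52 : List Pf := [.ki (nat_lit 39),
  .kp [nat_lit 19, nat_lit 24, nat_lit 29],
  .ki (nat_lit 41),
  .kp [nat_lit 14, nat_lit 6, nat_lit 0],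
  .ki (nat_lit 43),
  .kp [nat_lit 27, nat_lit 8, nat_lit 20],
  .ki (nat_lit 45),
  .kp [nat_lit 6, nat_lit 39, nat_lit 0],
  .ki (nat_lit 47),
  .kp [nat_lit 25, nat_lit 8, nat_lit 7],
  .ki (nat_lit 49),
  .kp [nat_lit 32, nat_lit 3, nat_lit 26]]
noncomputable def P64 : List Pf := [.ki (nat_lit 51),
  .kp [nat_lit 30, nat_lit 40, nat_lit 5],
  .ki (nat_lit 53),
  .kp [nat_lit 52, nat_lit 34, nat_lit 48],
  .ki (nat_lit 55),
  .kp [nat_lit 45, nat_lit 54, nat_lit 21],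
  .ki (nat_lit 57),
  .kp [nat_lit 50, nat_lit 56, nat_lit 50, nat_lit 10, nat_lit 12],
  .ki (nat_lit 59),
  .kp [nat_lit 32, nat_lit 50],
  .ki (nat_lit 61),
  .kp [nat_lit 19, nat_lit 43, nat_lit 49, nat_lit 19]]
noncomputable def P72 : List Pf := [.ki (nat_lit 63),
  .kp [nat_lit 50, nat_lit 15, nat_lit 6, nat_lit 50, nat_lit 16],
  .ki (nat_lit 65),
  .kp [nat_lit 41, nat_lit 58, nat_lit 7, nat_lit 18, nat_lit 19, nat_lit 16, nat_lit 12],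
  .ki (nat_lit 67),
  .kp [nat_lit 55, nat_lit 50, nat_lit 44, nat_lit 4, nat_lit 20],
  .ki (nat_lit 69),
  .kp [nat_lit 19, nat_lit 43, nat_lit 49, nat_lit 1, nat_lit 20, nat_lit 16, nat_lit 12]]
noncomputable def P89 : List Pf := [.ki (nat_lit 71),
  .kp [nat_lit 49, nat_lit 45, nat_lit 12, nat_lit 7, nat_lit 19, nat_lit 16, nat_lit 12],
  .ki (nat_lit 73),
  .sb (nat_lit 0),
  .ss (nat_lit 0) [(nat_lit 75)] [],
  .sb (nat_lit 1),
  .ss (nat_lit 0) [(nat_lit 77)] [],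
  .sb (nat_lit 2),
  .ss (nat_lit 0) [(nat_lit 79)] [],
  .ss (nat_lit 0) [] [nat_lit 75, nat_lit 77, nat_lit 80],
  .ss (nat_lit 0) [(nat_lit 81)] [],
  .sb (nat_lit 3),
  .ss (nat_lit 0) [(nat_lit 83)] [],
  .ss (nat_lit 0) [] [nat_lit 82, nat_lit 79, nat_lit 77],
  .ss (nat_lit 0) [(nat_lit 85)] [],
  .sb (nat_lit 4),
  .ss (nat_lit 0) [] [nat_lit 87, nat_lit 77, nat_lit 77]]
noncomputable def P101 : List Pf := [.ss (nat_lit 0) [(nat_lit 88)] [],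
  .ss (nat_lit 0) [] [nat_lit 78, nat_lit 84, nat_lit 83],
  .ss (nat_lit 0) [(nat_lit 90)] [],
  .ss (nat_lit 0) [] [nat_lit 86, nat_lit 76, nat_lit 81],
  .ss (nat_lit 0) [(nat_lit 92)] [],
  .sb (nat_lit 7),
  .ss (nat_lit 0) [(nat_lit 94)] [],
  .df,
  .cy (nat_lit 0) [] [] [] (nat_lit 96) [],
  .tr (nat_lit 96) [] [] [⟨[nat_lit 93, nat_lit 77, nat_lit 85, nat_lit 83], [nat_lit 14, nat_lit 19, nat_lit 16], (nat_lit 96)⟩],
  .ss (nat_lit 1) [(nat_lit 98)] [],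
  .tr (nat_lit 96) [] [] [⟨[nat_lit 75, nat_lit 92, nat_lit 82, nat_lit 91, nat_lit 81, nat_lit 83], [nat_lit 41, nat_lit 1, nat_lit 19, nat_lit 16], (nat_lit 96)⟩]]
noncomputable def P109 : List Pf := [.ss (nat_lit 1) [(nat_lit 100)] [],
  .tr (nat_lit 96) [] [] [⟨[nat_lit 95, nat_lit 90, nat_lit 77], [nat_lit 1], (nat_lit 96)⟩],
  .ss (nat_lit 1) [(nat_lit 102)] [],
  .tr (nat_lit 96) [] [] [⟨[nat_lit 80, nat_lit 83, nat_lit 82, nat_lit 83, nat_lit 79, nat_lit 81, nat_lit 75], [nat_lit 51, nat_lit 6, nat_lit 16, nat_lit 10, nat_lit 12], (nat_lit 96)⟩],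
  .ss (nat_lit 1) [(nat_lit 104)] [],
  .tr (nat_lit 96) [] [] [⟨[nat_lit 92, nat_lit 77, nat_lit 89, nat_lit 81, nat_lit 92, nat_lit 86, nat_lit 94, nat_lit 87, nat_lit 79], [nat_lit 41, nat_lit 0, nat_lit 20, nat_lit 16], (nat_lit 96)⟩],
  .ss (nat_lit 1) [(nat_lit 106)] [],
  .tr (nat_lit 96) [] [] [⟨[nat_lit 85, nat_lit 77, nat_lit 86, nat_lit 89, nat_lit 84, nat_lit 78, nat_lit 86, nat_lit 86, nat_lit 95, nat_lit 82, nat_lit 86, nat_lit 87, nat_lit 81, nat_lit 81], [nat_lit 34, nat_lit 4, nat_lit 7, nat_lit 20, nat_lit 16, nat_lit 12], (nat_lit 96)⟩]]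
noncomputable def P116 : List Pf := [.ss (nat_lit 1) [(nat_lit 108)] [],
  .cy (nat_lit 1) [] [] [nat_lit 59, nat_lit 68] (nat_lit 97) [⟨[nat_lit 85, nat_lit 79, nat_lit 87, nat_lit 86, nat_lit 81], [nat_lit 4, nat_lit 7, nat_lit 30, nat_lit 10], (nat_lit 96)⟩],
  .df,
  .cy (nat_lit 0) [] [] [] (nat_lit 111) [],
  .tr (nat_lit 111) [] [] [⟨[nat_lit 99, nat_lit 107, nat_lit 104, nat_lit 101, nat_lit 107, nat_lit 104], [nat_lit 41, nat_lit 3, nat_lit 16, nat_lit 12], (nat_lit 111)⟩],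
  .ss (nat_lit 2) [(nat_lit 113)] [],
  .tr (nat_lit 111) [] [] [⟨[nat_lit 100, nat_lit 108, nat_lit 104, nat_lit 105, nat_lit 109], [nat_lit 18, nat_lit 16], (nat_lit 111)⟩]]
noncomputable def P122 : List Pf := [.ss (nat_lit 2) [(nat_lit 115)] [],
  .tr (nat_lit 111) [] [] [⟨[nat_lit 102, nat_lit 99, nat_lit 102, nat_lit 105, nat_lit 104], [nat_lit 51, nat_lit 20, nat_lit 16], (nat_lit 111)⟩],
  .ss (nat_lit 2) [(nat_lit 117)] [],
  .tr (nat_lit 111) [] [] [⟨[nat_lit 109, nat_lit 98, nat_lit 105, nat_lit 104, nat_lit 108, nat_lit 105, nat_lit 101, nat_lit 105, nat_lit 109], [nat_lit 27, nat_lit 4, nat_lit 20, nat_lit 12], (nat_lit 111)⟩],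
  .ss (nat_lit 2) [(nat_lit 119)] [],
  .cy (nat_lit 1) [] [] [nat_lit 63, nat_lit 66] (nat_lit 110) [⟨[nat_lit 109, nat_lit 101, nat_lit 108, nat_lit 106, nat_lit 104], [nat_lit 16, nat_lit 55, nat_lit 22, nat_lit 5, nat_lit 16, nat_lit 12], (nat_lit 111)⟩]]
noncomputable def P128 : List Pf := [.cy (nat_lit 0) [] [] [] (nat_lit 121) [⟨[nat_lit 108, nat_lit 108, nat_lit 104, nat_lit 108], [nat_lit 18, nat_lit 6, nat_lit 20, nat_lit 7, nat_lit 19, nat_lit 16], (nat_lit 111)⟩],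
  .ss (nat_lit 2) [(nat_lit 122)] [],
  .cy (nat_lit 1) [] [] [nat_lit 66, nat_lit 68] (nat_lit 112) [⟨[nat_lit 109, nat_lit 101, nat_lit 108, nat_lit 106, nat_lit 104], [nat_lit 7, nat_lit 16, nat_lit 7, nat_lit 16], (nat_lit 111)⟩],
  .df,
  .cy (nat_lit 0) [] [] [] (nat_lit 125) [],
  .tr (nat_lit 125) [] [] [⟨[nat_lit 104, nat_lit 100, nat_lit 98, nat_lit 103, nat_lit 108, nat_lit 109, nat_lit 101, nat_lit 105], [nat_lit 23, nat_lit 6, nat_lit 19, nat_lit 16, nat_lit 12], (nat_lit 125)⟩]]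
noncomputable def P132 : List Pf := [.cy (nat_lit 2) [] [] [nat_lit 63, nat_lit 68] (nat_lit 112) [⟨[nat_lit 98, nat_lit 100], [nat_lit 41, nat_lit 58, nat_lit 50, nat_lit 6, nat_lit 10, nat_lit 12], (nat_lit 125)⟩],
  .cy (nat_lit 0) [] [] [] (nat_lit 128) [],
  .cy (nat_lit 1) [] [] [nat_lit 59, nat_lit 61, nat_lit 66] (nat_lit 126) [⟨[nat_lit 106, nat_lit 100], [nat_lit 19, nat_lit 43, nat_lit 50, nat_lit 16, nat_lit 10], (nat_lit 125)⟩],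
  .cy (nat_lit 1) [] [] [nat_lit 74, nat_lit 64] (nat_lit 126) [⟨[nat_lit 105, nat_lit 109, nat_lit 104, nat_lit 108], [nat_lit 49, nat_lit 30, nat_lit 57, nat_lit 22, nat_lit 19], (nat_lit 125)⟩]]
noncomputable def P138 : List Pf := [.tr (nat_lit 129) [] [] [⟨[nat_lit 123, nat_lit 115, nat_lit 116, nat_lit 123, nat_lit 123, nat_lit 115], [nat_lit 42, nat_lit 44, nat_lit 22, nat_lit 8, nat_lit 10], (nat_lit 129)⟩],
  .df,
  .cy (nat_lit 0) [] [] [] (nat_lit 133) [],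
  .tr (nat_lit 133) [] [] [⟨[nat_lit 99, nat_lit 103, nat_lit 102, nat_lit 100, nat_lit 107, nat_lit 107, nat_lit 100, nat_lit 98], [nat_lit 0], (nat_lit 133)⟩],
  .ss (nat_lit 4) [(nat_lit 135)] [],
  .tr (nat_lit 133) [] [] [⟨[nat_lit 108, nat_lit 108, nat_lit 106, nat_lit 105, nat_lit 106, nat_lit 99, nat_lit 101, nat_lit 106, nat_lit 109, nat_lit 107, nat_lit 98], [nat_lit 58, nat_lit 49, nat_lit 7, nat_lit 7], (nat_lit 133)⟩]]
noncomputable def P142 : List Pf := [.tr (nat_lit 133) [] [] [⟨[nat_lit 105, nat_lit 104, nat_lit 104, nat_lit 100, nat_lit 107, nat_lit 109, nat_lit 103, nat_lit 98, nat_lit 108, nat_lit 102, nat_lit 99, nat_lit 101], [nat_lit 37, nat_lit 5, nat_lit 7, nat_lit 1, nat_lit 16], (nat_lit 133)⟩],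
  .cy (nat_lit 1) [] [] [nat_lit 59, nat_lit 64, nat_lit 66] (nat_lit 112) [⟨[nat_lit 108, nat_lit 105, nat_lit 105, nat_lit 101, nat_lit 99], [nat_lit 55, nat_lit 50, nat_lit 41, nat_lit 6, nat_lit 19, nat_lit 12], (nat_lit 133)⟩],
  .cy (nat_lit 0) [] [] [] (nat_lit 139) [],
  .cy (nat_lit 1) [] [] [nat_lit 61, nat_lit 68] (nat_lit 124) [⟨[nat_lit 119, nat_lit 123, nat_lit 114, nat_lit 123], [nat_lit 22, nat_lit 38, nat_lit 49, nat_lit 4, nat_lit 16, nat_lit 10, nat_lit 12], (nat_lit 140)⟩]]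
noncomputable def P147 : List Pf := [.cy (nat_lit 0) [] [] [] (nat_lit 141) [],
  .cy (nat_lit 1) [] [] [nat_lit 67] (nat_lit 124) [⟨[nat_lit 123, nat_lit 114, nat_lit 116], [nat_lit 7, nat_lit 56, nat_lit 10], (nat_lit 142)⟩],
  .cy (nat_lit 0) [] [] [] (nat_lit 143) [⟨[nat_lit 120, nat_lit 114, nat_lit 116], [nat_lit 16, nat_lit 7, nat_lit 58, nat_lit 5, nat_lit 20, nat_lit 16], (nat_lit 142)⟩],
  .ss (nat_lit 4) [(nat_lit 144)] [],
  .cy (nat_lit 2) [] [] [nat_lit 68, nat_lit 60] (nat_lit 124) [⟨[nat_lit 120, nat_lit 122, nat_lit 116, nat_lit 123, nat_lit 123, nat_lit 114], [nat_lit 49, nat_lit 44, nat_lit 57, nat_lit 7, nat_lit 16, nat_lit 10], (nat_lit 142)⟩]]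
noncomputable def P151 : List Pf := [.cy (nat_lit 0) [] [] [] (nat_lit 146) [],
  .cy (nat_lit 1) [] [] [nat_lit 72, nat_lit 62] (nat_lit 126) [⟨[nat_lit 102, nat_lit 100, nat_lit 108, nat_lit 104, nat_lit 101], [nat_lit 32, nat_lit 7, nat_lit 57, nat_lit 5, nat_lit 19, nat_lit 16, nat_lit 12], (nat_lit 133)⟩],
  .cy (nat_lit 0) [] [] [] (nat_lit 148) [],
  .cy (nat_lit 1) [] [] [nat_lit 63, nat_lit 71] (nat_lit 126) [⟨[nat_lit 106, nat_lit 108, nat_lit 107, nat_lit 109], [nat_lit 49, nat_lit 58, nat_lit 49, nat_lit 35, nat_lit 19, nat_lit 16, nat_lit 12], (nat_lit 133)⟩]]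
noncomputable def P156 : List Pf := [.cy (nat_lit 0) [] [] [] (nat_lit 150) [],
  .cy (nat_lit 1) [] [] [nat_lit 59] (nat_lit 134) [⟨[nat_lit 108, nat_lit 102, nat_lit 107, nat_lit 98, nat_lit 104], [nat_lit 45, nat_lit 22, nat_lit 10, nat_lit 7, nat_lit 19], (nat_lit 133)⟩],
  .cy (nat_lit 0) [] [] [] (nat_lit 152) [],
  .cy (nat_lit 1) [] [] [nat_lit 66, nat_lit 66] (nat_lit 134) [⟨[nat_lit 105, nat_lit 99, nat_lit 109, nat_lit 109, nat_lit 98], [nat_lit 41, nat_lit 50, nat_lit 44, nat_lit 22, nat_lit 0, nat_lit 19, nat_lit 12], (nat_lit 133)⟩],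
  .cy (nat_lit 0) [] [] [] (nat_lit 154) []]
noncomputable def P160 : List Pf := [.cy (nat_lit 1) [] [] [nat_lit 60, nat_lit 64] (nat_lit 134) [⟨[nat_lit 100, nat_lit 108, nat_lit 98, nat_lit 108, nat_lit 100, nat_lit 98], [nat_lit 49, nat_lit 45, nat_lit 22, nat_lit 41, nat_lit 12], (nat_lit 133)⟩],
  .cy (nat_lit 0) [] [] [] (nat_lit 156) [],
  .cy (nat_lit 1) [] [] [nat_lit 59, nat_lit 74] (nat_lit 134) [⟨[nat_lit 104, nat_lit 101, nat_lit 102], [nat_lit 23, nat_lit 21, nat_lit 50, nat_lit 16, nat_lit 10], (nat_lit 133)⟩],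
  .cy (nat_lit 1) [] [] [nat_lit 60, nat_lit 61] (nat_lit 134) [⟨[nat_lit 99, nat_lit 107, nat_lit 108, nat_lit 104, nat_lit 100, nat_lit 98], [nat_lit 55, nat_lit 45, nat_lit 50, nat_lit 6, nat_lit 20], (nat_lit 133)⟩]]
noncomputable def P164 : List Pf := [.cy (nat_lit 0) [] [] [] (nat_lit 159) [],
  .cy (nat_lit 1) [] [] [nat_lit 59, nat_lit 68] (nat_lit 134) [⟨[nat_lit 101, nat_lit 109, nat_lit 102, nat_lit 106, nat_lit 102], [nat_lit 49, nat_lit 57, nat_lit 57, nat_lit 7, nat_lit 0], (nat_lit 133)⟩],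
  .cy (nat_lit 2) [] [] [nat_lit 69] (nat_lit 134) [⟨[nat_lit 101, nat_lit 99, nat_lit 108, nat_lit 108], [nat_lit 31, nat_lit 16, nat_lit 21, nat_lit 7, nat_lit 19, nat_lit 16], (nat_lit 133)⟩],
  .cy (nat_lit 1) [] [] [nat_lit 66, nat_lit 68] (nat_lit 147) [⟨[nat_lit 144, nat_lit 138, nat_lit 144, nat_lit 144, nat_lit 135, nat_lit 144], [nat_lit 31, nat_lit 18, nat_lit 22, nat_lit 50, nat_lit 20], (nat_lit 150)⟩]]
noncomputable def P168 : List Pf := [.cy (nat_lit 0) [] [] [] (nat_lit 163) [],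
  .cy (nat_lit 1) [] [] [nat_lit 64, nat_lit 70] (nat_lit 151) [⟨[nat_lit 136, nat_lit 144, nat_lit 144, nat_lit 135, nat_lit 144, nat_lit 137], [nat_lit 55, nat_lit 50, nat_lit 50, nat_lit 0, nat_lit 16, nat_lit 10, nat_lit 12], (nat_lit 150)⟩],
  .cy (nat_lit 1) [] [] [nat_lit 68, nat_lit 60] (nat_lit 149) [⟨[nat_lit 135, nat_lit 145, nat_lit 145, nat_lit 137], [nat_lit 49, nat_lit 44, nat_lit 7, nat_lit 43, nat_lit 20, nat_lit 12], (nat_lit 155)⟩],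
  .cy (nat_lit 0) [] [] [] (nat_lit 166) []]
noncomputable def P172 : List Pf := [.cy (nat_lit 1) [] [] [nat_lit 60, nat_lit 65] (nat_lit 139) [⟨[nat_lit 122, nat_lit 115, nat_lit 120, nat_lit 123], [nat_lit 37, nat_lit 6, nat_lit 49, nat_lit 5], (nat_lit 147)⟩],
  .cy (nat_lit 0) [] [] [] (nat_lit 168) [],
  .cy (nat_lit 1) [] [] [nat_lit 67] (nat_lit 139) [⟨[nat_lit 117, nat_lit 122, nat_lit 119, nat_lit 114], [nat_lit 42, nat_lit 56, nat_lit 7, nat_lit 20, nat_lit 16], (nat_lit 142)⟩],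
  .cy (nat_lit 1) [] [] [nat_lit 67, nat_lit 61] (nat_lit 139) [⟨[nat_lit 116, nat_lit 123, nat_lit 113, nat_lit 116], [nat_lit 58, nat_lit 21, nat_lit 49, nat_lit 4, nat_lit 20], (nat_lit 142)⟩]]
noncomputable def P177 : List Pf := [.cy (nat_lit 1) [] [] [nat_lit 61, nat_lit 59] (nat_lit 139) [⟨[nat_lit 120, nat_lit 122, nat_lit 122, nat_lit 116], [nat_lit 7, nat_lit 56, nat_lit 50, nat_lit 4, nat_lit 16], (nat_lit 140)⟩],
  .cy (nat_lit 0) [] [] [] (nat_lit 172) [],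
  .cy (nat_lit 1) [] [] [nat_lit 59, nat_lit 63] (nat_lit 139) [⟨[nat_lit 116, nat_lit 123, nat_lit 115, nat_lit 113], [nat_lit 5, nat_lit 57, nat_lit 49, nat_lit 16, nat_lit 10], (nat_lit 142)⟩],
  .cy (nat_lit 0) [] [] [] (nat_lit 174) [],
  .cy (nat_lit 1) [] [] [nat_lit 60, nat_lit 61] (nat_lit 139) [⟨[nat_lit 120, nat_lit 122, nat_lit 117, nat_lit 114], [nat_lit 30, nat_lit 22, nat_lit 30, nat_lit 7, nat_lit 10], (nat_lit 142)⟩]]
noncomputable def P182 : List Pf := [.cy (nat_lit 1) [] [] [nat_lit 72, nat_lit 59] (nat_lit 139) [⟨[nat_lit 122, nat_lit 120, nat_lit 116, nat_lit 116], [nat_lit 35, nat_lit 46, nat_lit 7, nat_lit 19, nat_lit 16, nat_lit 12], (nat_lit 142)⟩],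
  .cy (nat_lit 0) [] [] [] (nat_lit 177) [],
  .cy (nat_lit 2) [] [] [nat_lit 59, nat_lit 64] (nat_lit 139) [⟨[nat_lit 116, nat_lit 122, nat_lit 113, nat_lit 113], [nat_lit 36, nat_lit 7, nat_lit 35, nat_lit 7, nat_lit 16, nat_lit 10, nat_lit 12], (nat_lit 164)⟩],
  .cy (nat_lit 0) [] [] [] (nat_lit 179) [],
  .cy (nat_lit 1) [] [] [nat_lit 61, nat_lit 59] (nat_lit 141) [⟨[nat_lit 122, nat_lit 122, nat_lit 115], [nat_lit 10, nat_lit 50, nat_lit 7, nat_lit 20, nat_lit 16, nat_lit 12], (nat_lit 164)⟩]]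
noncomputable def P187 : List Pf := [.cy (nat_lit 0) [] [] [] (nat_lit 181) [],
  .cy (nat_lit 1) [] [] [nat_lit 59, nat_lit 70] (nat_lit 141) [⟨[nat_lit 117, nat_lit 123, nat_lit 113, nat_lit 115], [nat_lit 6, nat_lit 50, nat_lit 6, nat_lit 41, nat_lit 20, nat_lit 16, nat_lit 12], (nat_lit 147)⟩],
  .cy (nat_lit 0) [] [] [] (nat_lit 183) [],
  .cy (nat_lit 1) [] [] [nat_lit 66] (nat_lit 141) [⟨[nat_lit 118, nat_lit 120, nat_lit 122, nat_lit 115, nat_lit 113], [nat_lit 38, nat_lit 22, nat_lit 50, nat_lit 22, nat_lit 16, nat_lit 12], (nat_lit 164)⟩],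
  .cy (nat_lit 0) [] [] [] (nat_lit 185) []]
noncomputable def P191 : List Pf := [.cy (nat_lit 1) [] [] [nat_lit 59, nat_lit 73] (nat_lit 141) [⟨[nat_lit 119, nat_lit 122, nat_lit 122, nat_lit 113, nat_lit 116], [nat_lit 56, nat_lit 50, nat_lit 32, nat_lit 50, nat_lit 16, nat_lit 12], (nat_lit 147)⟩],
  .cy (nat_lit 0) [] [] [] (nat_lit 187) [],
  .cy (nat_lit 1) [] [] [nat_lit 62, nat_lit 62] (nat_lit 161) [⟨[nat_lit 136, nat_lit 144, nat_lit 136, nat_lit 145, nat_lit 135, nat_lit 144], [nat_lit 49, nat_lit 41, nat_lit 56, nat_lit 8, nat_lit 16], (nat_lit 170)⟩],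
  .cy (nat_lit 1) [] [] [nat_lit 73, nat_lit 67] (nat_lit 154) [⟨[nat_lit 137, nat_lit 144, nat_lit 135, nat_lit 145, nat_lit 135], [nat_lit 11, nat_lit 50, nat_lit 18, nat_lit 6, nat_lit 19, nat_lit 12], (nat_lit 186)⟩]]
noncomputable def P196 : List Pf := [.cy (nat_lit 0) [] [] [] (nat_lit 190) [],
  .cy (nat_lit 1) [] [] [nat_lit 59, nat_lit 68] (nat_lit 142) [⟨[nat_lit 137, nat_lit 144, nat_lit 138], [nat_lit 6, nat_lit 22, nat_lit 41, nat_lit 7, nat_lit 20, nat_lit 12], (nat_lit 180)⟩],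
  .cy (nat_lit 0) [] [] [] (nat_lit 192) [],
  .cy (nat_lit 1) [] [] [nat_lit 68, nat_lit 60] (nat_lit 181) [⟨[nat_lit 138, nat_lit 145, nat_lit 136, nat_lit 145, nat_lit 135], [nat_lit 49, nat_lit 49, nat_lit 7, nat_lit 3, nat_lit 20, nat_lit 12], (nat_lit 182)⟩],
  .cy (nat_lit 0) [] [] [] (nat_lit 194) []]
noncomputable def P211 : List Pf := [.ki (nat_lit 0),
  .ki (nat_lit 1),
  .ki (nat_lit 2),
  .ki (nat_lit 3),
  .ki (nat_lit 4),
  .ki (nat_lit 5),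
  .ki (nat_lit 6),
  .ki (nat_lit 7),
  .ss (nat_lit 1) [] [nat_lit 98, nat_lit 98],
  .ss (nat_lit 1) [] [nat_lit 108, nat_lit 108, nat_lit 98, nat_lit 108, nat_lit 98],
  .ss (nat_lit 1) [] [nat_lit 108, nat_lit 98, nat_lit 98, nat_lit 98],
  .ss (nat_lit 2) [] [nat_lit 122, nat_lit 122, nat_lit 119, nat_lit 122, nat_lit 122],
  .ss (nat_lit 2) [] [nat_lit 119, nat_lit 119, nat_lit 119, nat_lit 119, nat_lit 122, nat_lit 119],
  .ss (nat_lit 3) [] [nat_lit 127, nat_lit 132, nat_lit 132],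
  .ss (nat_lit 3) [] [nat_lit 132, nat_lit 127, nat_lit 127, nat_lit 127]]
noncomputable def P214 : List Pf := [.ss (nat_lit 3) [] [nat_lit 132, nat_lit 127, nat_lit 132, nat_lit 127, nat_lit 127, nat_lit 132],
  .ss (nat_lit 4) [] [nat_lit 144, nat_lit 137, nat_lit 144],
  .ss (nat_lit 4) [] [nat_lit 144, nat_lit 137, nat_lit 144, nat_lit 137, nat_lit 144, nat_lit 137]]
noncomputable def Rt : List (List ℕ) := [[nat_lit 5, nat_lit 8, nat_lit 2, nat_lit 0, nat_lit 1, nat_lit 2, nat_lit 7, nat_lit 0, nat_lit 3, nat_lit 7, nat_lit 1, nat_lit 3, nat_lit 9],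
  [nat_lit 7, nat_lit 8, nat_lit 7, nat_lit 9],
  [nat_lit 2, nat_lit 0, nat_lit 7, nat_lit 3, nat_lit 8, nat_lit 2, nat_lit 7, nat_lit 0, nat_lit 3, nat_lit 9],
  [nat_lit 3, nat_lit 1, nat_lit 7, nat_lit 3, nat_lit 0, nat_lit 7, nat_lit 2, nat_lit 1, nat_lit 0, nat_lit 2, nat_lit 8, nat_lit 6, nat_lit 9],
  [nat_lit 1, nat_lit 3, nat_lit 0, nat_lit 3, nat_lit 1, nat_lit 2, nat_lit 8, nat_lit 0, nat_lit 7, nat_lit 3, nat_lit 2, nat_lit 6, nat_lit 9],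
  [nat_lit 0, nat_lit 3, nat_lit 2, nat_lit 8, nat_lit 7, nat_lit 2, nat_lit 3, nat_lit 1, nat_lit 2, nat_lit 7, nat_lit 0, nat_lit 3, nat_lit 7, nat_lit 1, nat_lit 3, nat_lit 2, nat_lit 9],
  [nat_lit 1, nat_lit 2, nat_lit 3, nat_lit 1, nat_lit 2, nat_lit 0, nat_lit 1, nat_lit 2, nat_lit 8, nat_lit 1, nat_lit 3, nat_lit 1, nat_lit 2, nat_lit 0, nat_lit 1, nat_lit 7, nat_lit 3, nat_lit 9],
  [nat_lit 3, nat_lit 1, nat_lit 4, nat_lit 2, nat_lit 4, nat_lit 2, nat_lit 1, nat_lit 4, nat_lit 0, nat_lit 3, nat_lit 7, nat_lit 1, nat_lit 0, nat_lit 2, nat_lit 3, nat_lit 0, nat_lit 2, nat_lit 4, nat_lit 1, nat_lit 2, nat_lit 4, nat_lit 8, nat_lit 3, nat_lit 7, nat_lit 1, nat_lit 0, nat_lit 3, nat_lit 0, nat_lit 4, nat_lit 0, nat_lit 3, nat_lit 2, nat_lit 1, nat_lit 3, nat_lit 0, nat_lit 4, nat_lit 1, nat_lit 2, nat_lit 4, nat_lit 2, nat_lit 4, nat_lit 1, nat_lit 3, nat_lit 9],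
  [nat_lit 8, nat_lit 8],
  [nat_lit 8, nat_lit 3, nat_lit 2, nat_lit 3, nat_lit 2, nat_lit 1, nat_lit 8, nat_lit 3, nat_lit 2, nat_lit 3, nat_lit 2, nat_lit 1, nat_lit 8, nat_lit 3, nat_lit 2, nat_lit 3, nat_lit 2, nat_lit 1]]
noncomputable def dt : Dt := ⟨(nat_lit 24), (nat_lit 0), (nat_lit 0), (nat_lit 0), (nat_lit 8), C, [nat_lit 0, nat_lit 1, nat_lit 2, nat_lit 3, nat_lit 4, nat_lit 6, nat_lit 5, nat_lit 7, nat_lit 9], Rt, [[nat_lit 0],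
  [nat_lit 1],
  [nat_lit 2],
  [nat_lit 3],
  [nat_lit 4],
  [nat_lit 5],
  [nat_lit 6],
  [nat_lit 7]], D, R, F⟩
noncomputable def PL : List ℕ := [nat_lit 0, nat_lit 1, nat_lit 2, nat_lit 3, nat_lit 4]
noncomputable def aL : List (List ℕ) := [[nat_lit 0, nat_lit 15400, nat_lit 0, nat_lit 0, nat_lit 0],
  [nat_lit 1, nat_lit 90, nat_lit 1215, nat_lit 2430, nat_lit 11664],
  [nat_lit 0, nat_lit 35, nat_lit 560, nat_lit 3045, nat_lit 11760],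
  [nat_lit 0, nat_lit 20, nat_lit 870, nat_lit 2990, nat_lit 11520],
  [nat_lit 0, nat_lit 25, nat_lit 875, nat_lit 3000, nat_lit 11500]]
noncomputable def S0 : List (ℕ × List ℕ) := [((nat_lit 83), [nat_lit 3]), ((nat_lit 87), [nat_lit 4]), ((nat_lit 81), [nat_lit 2, nat_lit 1, nat_lit 0])]
noncomputable def S1 : List (ℕ × List ℕ) := [((nat_lit 204), [nat_lit 3, nat_lit 2, nat_lit 3, nat_lit 2]), ((nat_lit 98), [nat_lit 5, nat_lit 1, nat_lit 2, nat_lit 0, nat_lit 7, nat_lit 3, nat_lit 1]), ((nat_lit 205), [nat_lit 2, nat_lit 3, nat_lit 4, nat_lit 2, nat_lit 7, nat_lit 0, nat_lit 4, nat_lit 2, nat_lit 1, nat_lit 3, nat_lit 4, nat_lit 2, nat_lit 0, nat_lit 1, nat_lit 0, nat_lit 3, nat_lit 0, nat_lit 2, nat_lit 1, nat_lit 0, nat_lit 2, nat_lit 0, nat_lit 4, nat_lit 1, nat_lit 2]), ((nat_lit 206), [nat_lit 4, nat_lit 2, nat_lit 1, nat_lit 4, nat_lit 2, nat_lit 3, nat_lit 4, nat_lit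 3, nat_lit 2, nat_lit 4, nat_lit 1, nat_lit 7, nat_lit 4, nat_lit 2, nat_lit 0, nat_lit 4, nat_lit 3, nat_lit 4, nat_lit 0, nat_lit 2, nat_lit 0, nat_lit 3, nat_lit 4, nat_lit 0, nat_lit 2, nat_lit 7, nat_lit 4])]
noncomputable def S2 : List (ℕ × List ℕ) := [((nat_lit 207), [nat_lit 3, nat_lit 1, nat_lit 3, nat_lit 0, nat_lit 1, nat_lit 7, nat_lit 2]), ((nat_lit 119), [nat_lit 7, nat_lit 2, nat_lit 3, nat_lit 2, nat_lit 0, nat_lit 4, nat_lit 3, nat_lit 0, nat_lit 3, nat_lit 4]), ((nat_lit 208), [nat_lit 3, nat_lit 1, nat_lit 7, nat_lit 3, nat_lit 0, nat_lit 2, nat_lit 1, nat_lit 0, nat_lit 3, nat_lit 0])]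
noncomputable def S3 : List (ℕ × List ℕ) := [((nat_lit 209), [nat_lit 3, nat_lit 7, nat_lit 1, nat_lit 0, nat_lit 3, nat_lit 2, nat_lit 1, nat_lit 3, nat_lit 7]), ((nat_lit 210), [nat_lit 3, nat_lit 2, nat_lit 7, nat_lit 1, nat_lit 0, nat_lit 3, nat_lit 0, nat_lit 1, nat_lit 2]), ((nat_lit 211), [nat_lit 7, nat_lit 3, nat_lit 0, nat_lit 1, nat_lit 3, nat_lit 2, nat_lit 1, nat_lit 0, nat_lit 2])]
noncomputable def S4 : List (ℕ × List ℕ) := [((nat_lit 212), [nat_lit 5, nat_lit 0, nat_lit 3, nat_lit 2, nat_lit 1, nat_lit 4, nat_lit 3, nat_lit 2, nat_lit 0, nat_lit 4, nat_lit 2, nat_lit 3, nat_lit 4, nat_lit 0, nat_lit 1, nat_lit 2, nat_lit 1, nat_lit 0, nat_lit 3, nat_lit 7, nat_lit 1, nat_lit 4, nat_lit 2]), ((nat_lit 213), [nat_lit 6, nat_lit 7, nat_lit 3, nat_lit 0, nat_lit 1, nat_lit 3, nat_lit 2, nat_lit 4, nat_lit 0, nat_lit 2, nat_lit 0, nat_lit 1, nat_lit 0, nat_lit 4,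 nat_lit 0, nat_lit 2, nat_lit 3, nat_lit 1, nat_lit 3, nat_lit 0, nat_lit 3, nat_lit 1, nat_lit 2, nat_lit 1, nat_lit 0, nat_lit 1]), ((nat_lit 144), [nat_lit 5, nat_lit 4, nat_lit 1, nat_lit 4, nat_lit 0, nat_lit 4, nat_lit 2, nat_lit 3, nat_lit 1, nat_lit 2, nat_lit 3, nat_lit 4, nat_lit 0, nat_lit 2, nat_lit 3, nat_lit 2, nat_lit 7, nat_lit 1, nat_lit 3, nat_lit 1, nat_lit 7, nat_lit 3, nat_lit 2, nat_lit 4, nat_lit 2, nat_lit 4, nat_lit 1, nat_lit 3, nat_lit 4])]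
noncomputable def KG : List (ℕ × List ℕ) := [((nat_lit 0), [nat_lit 5]), ((nat_lit 196), [nat_lit 6]), ((nat_lit 1), [nat_lit 7]), ((nat_lit 197), [nat_lit 7]), ((nat_lit 2), [nat_lit 2, nat_lit 0, nat_lit 7, nat_lit 3]), ((nat_lit 198), [nat_lit 3, nat_lit 7, nat_lit 0, nat_lit 2]), ((nat_lit 3), [nat_lit 3, nat_lit 1, nat_lit 7, nat_lit 3, nat_lit 0, nat_lit 7, nat_lit 2, nat_lit 1, nat_lit 0, nat_lit 2]), ((nat_lit 199), [nat_lit 2, nat_lit 0, nat_lit 1, nat_lit 2, nat_lit 7, nat_lit 0, nat_lit 3, nat_lit 7, nat_lit 1, nat_lit 3]), ((nat_lit 4), [nat_lit 1, nat_lit 3, nat_lit 0, nat_lit 3, nat_lit 1, nat_lit 2]), ((nat_lit 200), [nat_lit 2, nat_lit 1, nat_lit 3, nat_lit 0, nat_lit 3, nat_lit 1]), ((nat_lit 5), [nat_lit 0, nat_lit 3, nat_lit 2]), ((nat_lit 201), [nat_lit 2, nat_lit 3, nat_lit 0]), ((nat_lit 6), [nat_lit 1, nat_lit 2, nat_lit 3, nat_lit 1, nat_lit 2, nat_lit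 0, nat_lit 1, nat_lit 2]), ((nat_lit 202), [nat_lit 2, nat_lit 1, nat_lit 0, nat_lit 2, nat_lit 1, nat_lit 3, nat_lit 2, nat_lit 1]), ((nat_lit 7), [nat_lit 3, nat_lit 1, nat_lit 4, nat_lit 2, nat_lit 4, nat_lit 2, nat_lit 1, nat_lit 4, nat_lit 0, nat_lit 3, nat_lit 7, nat_lit 1, nat_lit 0, nat_lit 2, nat_lit 3, nat_lit 0, nat_lit 2, nat_lit 4, nat_lit 1, nat_lit 2, nat_lit 4]), ((nat_lit 203), [nat_lit 4, nat_lit 2, nat_lit 1, nat_lit 4, nat_lit 2, nat_lit 0, nat_lit 3, nat_lit 2, nat_lit 0, nat_lit 1, nat_lit 7, nat_lit 3, nat_lit 0, nat_lit 4, nat_lit 1, nat_lit 2, nat_lit 4, nat_lit 2, nat_lit 4, nat_lit 1, nat_lit 3])]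
noncomputable def Ws : List (List ℕ) := [[],
  [nat_lit 8],
  [nat_lit 8, nat_lit 0, nat_lit 8],
  [nat_lit 8, nat_lit 1, nat_lit 0, nat_lit 8],
  [nat_lit 8, nat_lit 4, nat_lit 8]]
noncomputable def sL : List ℕ := [nat_lit 1, nat_lit 15400, nat_lit 534600, nat_lit 1871100, nat_lit 7185024]

end H16.LMc
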